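import Cfsg.Agent.Lib.SelfCentThree.Basic
import Cfsg.Agent.Lib.DefectOne.SelfCent
import Cfsg.Agent.Lib.DefectOne.Three
import Cfsg.Agent.Lib.CharInt.Kazarin
import Cfsg.Agent.Lib.Invol.Basic

/-!
# The principal 3-block of a simple group with a self-centralising element of order three

The principal block is `1, A, B` with `B = 1 + A` on 3-regular elements and `A x = 1`, `B x = -1`;
all other characters vanish at `x`. With `d = A 1`, `a = A s` for an involution `s`, the structure
constants give `3 c² d (d + 1) = |G| (d - a)²` and `q (d - a)² = c (d² + a)`.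
-/

set_option autoImplicit false
set_option linter.style.haveILetI false
set_option linter.unusedSectionVars false

namespace Cfsg.Agent.SelfCentThree

open Cfsg Cfsg.Agent
open scoped ComplexConjugate Classical commutatorElement

universe u

variable {G : Type u} [Group G] [Fintype G] {x : G}

/-- The three characters. -/
structure Block (x : G) where
  A : IrrCharacter G
  B : IrrCharacter G
  d : ℕ
  hd : 4 ≤ d
  hd3 : d % 3 = 1
  A_one : A.1 1 = d
  B_one : B.1 1 = d + 1
  A_x : A.1 x⁻¹ = 1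
  B_x : B.1 x⁻¹ = -1
  A_x' : A.1 x = 1
  B_x' : B.1 x = -1
  A_ne : A ≠ Char.trivialChar G
  B_ne : B ≠ Char.trivialChar G
  AB_ne : A ≠ B
  reg : ∀ g : G, ¬ 3 ∣ orderOf g → B.1 g = 1 + A.1 g
  rest : ∀ χ : IrrCharacter G, χ ≠ Char.trivialChar G → χ ≠ A → χ ≠ B → χ.1 x⁻¹ = 0

theorem hom_eq_one [IsSimpleGroup G] (hnc : ¬ IsMulCommutative G) (lam : G →* ℂ) : lam = 1 := by
  have hc : commutator G = ⊤ := by
    rcases (inferInstance : (commutator G).Normal).eq_bot_or_eq_top with e | e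
    · refine absurd ⟨⟨fun a b => ?_⟩⟩ hnc
      have : ⁅a, b⁆ ∈ commutator G := by
        rw [commutator_def]
        exact Subgroup.commutator_mem_commutator (Subgroup.mem_top a) (Subgroup.mem_top b)
      rw [e, Subgroup.mem_bot] at this
      exact commutatorElement_eq_one_iff_mul_comm.1 this
    · exact e
  have h1 : Nat.card (G →* ℂ) = 1 := by
    rw [Char.card_monoidHom_complex, hc, Subgroup.index_top]
  exact (Nat.card_eq_one_iff_unique.1 h1).1.elim _ _

theorem SelfThree.exists_block (h : SelfThree x) [IsSimpleGroup G] (hnc : ¬ IsMulCommutative G) :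
    Nonempty (Block x) ∧ ∃ t : G, t * x * t⁻¹ = x⁻¹ := by
  haveI : Fact (Nat.Prime 3) := ⟨Nat.prime_three⟩
  obtain ⟨M, hM⟩ := Cfsg.Agent.CharInt.exists_isPModular_of_prime (q := 3) Nat.prime_three
  haveI := hM.2.1
  have hX : IsPGroup 3 (Subgroup.zpowers x) :=
    IsPGroup.of_card (n := 1) (by rw [Nat.card_zpowers, h.order, pow_one])
  obtain ⟨P, hP⟩ := hX.exists_le_sylow
  have hPc : Nat.card P = 3 := h.card_sylow P
  have hPe : (P : Subgroup G) = Subgroup.zpowers x := by
    refine (Subgroup.eq_of_le_of_card_ge hP ?_).symm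
    rw [Nat.card_zpowers, h.order]
    exact hPc.le
  have hxP : x ∈ (P : Subgroup G) := hPe ▸ Subgroup.mem_zpowers x
  have hcent : Subgroup.centralizer ((P : Subgroup G) : Set G) = (P : Subgroup G) := by
    refine le_antisymm (fun g hg => ?_) fun g hg => ?_
    · rw [hPe]
      exact h.cent g (Subgroup.mem_centralizer_iff.1 hg x hxP).symm
    · rw [hPe] at hg ⊢
      obtain ⟨k, rfl⟩ := Subgroup.mem_zpowers_iff.1 hg
      refine Subgroup.mem_centralizer_iff.2 fun y hy => ?_
      obtain ⟨l, rfl⟩ := Subgroup.mem_zpowers_iff.1 hy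
      exact ((Commute.refl x).zpow_zpow l k).eq
  have hsc : DefectOne.SelfCent P := ⟨hPc, hcent⟩
  obtain ⟨m, hm⟩ : ∃ m, (Subgroup.centralizer ((P : Subgroup G) : Set G)).relIndex
      (Subgroup.normalizer ((P : Subgroup G) : Set G)) = m := ⟨_, rfl⟩
  obtain ⟨S⟩ := DefectOne.primeShape (P := P) (M := M) hM.2.2 hPc hm
  have hm2 : m = 2 := by
    have h2 : m ∣ 2 := S.m_dvd
    rcases (Nat.dvd_prime Nat.prime_two).1 h2 with e | e
    · exfalso
      rw [e, Subgroup.relIndex_eq_one] at hm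
      obtain ⟨Q, N, hN, hc⟩ := Transfer.hasNormalPComplement_of_normalizer_le_centralizer P hm
      have hQ : Nat.card (Q : Subgroup G) = 3 := h.card_sylow Q
      have hcard := hc.card_mul
      rcases hN.eq_bot_or_eq_top with e1 | e1
      · rw [e1, Subgroup.card_bot, one_mul, hQ] at hcard
        refine hnc ?_
        haveI : IsCyclic G := isCyclic_of_prime_card hcard.symm
        exact ⟨⟨IsCyclic.commGroup.mul_comm⟩⟩
      · rw [e1, Subgroup.card_top, hQ] at hcard
        have := Nat.card_pos (α := G)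
        omega
    · exact e
  subst hm2
  have hinv : ∃ t : G, t * x * t⁻¹ = x⁻¹ := by
    obtain ⟨t, ht, htC⟩ := SetLike.not_le_iff_exists.1
      (fun hle => by
        have := Subgroup.relIndex_eq_one.2 hle
        omega :
        ¬ Subgroup.normalizer ((P : Subgroup G) : Set G) ≤
          Subgroup.centralizer ((P : Subgroup G) : Set G))
    refine ⟨t, ?_⟩
    have hm' := (Subgroup.mem_normalizer_iff.1 ht x).1 hxP
    rw [hPe] at hm'
    rcases h.mem_iff.1 hm' with e | e | e
    · exact absurd (conj_eq_one_iff.1 e) h.ne_one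
    · refine absurd ?_ htC
      rw [hcent, hPe]
      exact h.cent t (mul_inv_eq_iff_eq_mul.1 e)
    · rw [e, h.inv_eq]
  refine ⟨?_, hinv⟩
  have hx1 : (⟨x, hxP⟩ : (P : Subgroup G)) ≠ 1 := fun e => h.ne_one (congrArg Subtype.val e)
  have hxi : x⁻¹ ∈ (P : Subgroup G) := inv_mem hxP
  have hxi1 : (⟨x⁻¹, hxi⟩ : (P : Subgroup G)) ≠ 1 := fun e =>
    h.ne_one (inv_eq_one.1 (congrArg Subtype.val e))
  set T := Char.trivialChar G with hT
  have hcard : (S.X ∪ S.Y).card = 3 := by
    rw [Finset.card_union_of_disjoint S.disj, S.cardX, S.cardY]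
  have hY : S.Y.card = 1 := S.cardY
  obtain ⟨θ, hθ⟩ := Finset.card_eq_one.1 hY
  have hYne : S.Y.Nonempty := ⟨θ, by rw [hθ]; simp⟩
  -- the values at `x` and `x⁻¹` are the same sign
  have hval : ∀ χ ∈ S.X ∪ S.Y, ∃ e : ℤ, (e = 1 ∨ e = -1) ∧ χ.1 x = e ∧ χ.1 x⁻¹ = e := by
    intro χ hχ
    rcases Finset.mem_union.1 hχ with hχ' | hχ'
    · exact ⟨S.εX χ, S.hεX χ hχ', S.X_val χ hχ' ⟨x, hxP⟩ hx1, S.X_val χ hχ' ⟨x⁻¹, hxi⟩ hxi1⟩
    · rw [hθ, Finset.mem_singleton] at hχ'
      subst hχ'
      have h1 := hsc.sum_Y hM.2.2 S hYne hxP h.ne_one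
      have h2 := hsc.sum_Y hM.2.2 S hYne hxi (fun e => h.ne_one (inv_eq_one.1 e))
      rw [hθ, Finset.sum_singleton] at h1 h2
      refine ⟨-S.ε, ?_, by push_cast; exact h1, by push_cast; exact h2⟩
      rcases S.hε with e | e <;> simp [e]
  have hvan : ∀ χ, χ ∉ S.X ∪ S.Y → χ.1 x = 0 ∧ χ.1 x⁻¹ = 0 := fun χ hχ =>
    have hb : χ ∉ principalBlock M G := fun hb => hχ (Finset.mem_union.2 (S.mem_XY hb))
    ⟨hsc.vanish hM.2.2 hb hxP h.ne_one,
      hsc.vanish hM.2.2 hb hxi fun e => h.ne_one (inv_eq_one.1 e)⟩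
  have hTm : T ∈ S.X ∪ S.Y := by
    refine Finset.mem_union.2 (S.mem_XY (hsc.mem_block hM.2.2 ?_))
    have : Char.degree T = 1 := by
      have := Char.apply_one_eq_degree T
      rw [hT, Char.trivialChar_apply] at this
      exact_mod_cast this.symm
    rw [this]
    omega
  obtain ⟨χ, ψ, hne, hpair⟩ := Finset.card_eq_two.1
    (show ((S.X ∪ S.Y).erase T).card = 2 by rw [Finset.card_erase_of_mem hTm, hcard])
  have hχT : χ ≠ T := (Finset.mem_erase.1 (hpair ▸ Finset.mem_insert_self χ {ψ})).1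
  have hψT : ψ ≠ T :=
    (Finset.mem_erase.1 (hpair ▸ Finset.mem_insert_of_mem (Finset.mem_singleton_self ψ))).1
  have hχm : χ ∈ S.X ∪ S.Y := (Finset.mem_erase.1 (hpair ▸ Finset.mem_insert_self χ {ψ})).2
  have hψm : ψ ∈ S.X ∪ S.Y :=
    (Finset.mem_erase.1 (hpair ▸ Finset.mem_insert_of_mem (Finset.mem_singleton_self ψ))).2
  have hthree : S.X ∪ S.Y = {T, χ, ψ} := by rw [← Finset.insert_erase hTm, hpair]
  obtain ⟨e, he, hex, hexi⟩ := hval χ hχm
  obtain ⟨f, hf, hfx, hfxi⟩ := hval ψ hψm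
  have hrel : ∀ g : G, ¬ 3 ∣ orderOf g → 1 + χ.1 g * e + ψ.1 g * f = 0 := by
    intro g hg
    have h1 := Char.sum_irr_mul_conj g x⁻¹
    rw [if_neg fun hc => ?_] at h1
    · simp only [CharInt.char_inv (Char.irr_isCharacter _), Complex.conj_conj] at h1
      rw [← Finset.sum_subset (Finset.subset_univ (S.X ∪ S.Y)) fun φ _ hφ => by
        rw [(hvan φ hφ).1, mul_zero], hthree, Finset.sum_insert (by simp [hχT.symm, hψT.symm]),
        Finset.sum_pair hne, hex, hfx] at h1
      rw [hT, Char.trivialChar_apply, Char.trivialChar_apply] at h1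
      linear_combination h1
    · obtain ⟨b, hb⟩ := isConj_iff.1 hc
      have : orderOf g = 3 := by
        rw [← MulEquiv.orderOf_eq (MulAut.conj b) g]
        show orderOf (b * g * b⁻¹) = 3
        rw [hb, orderOf_inv]
        exact h.order
      omega
  have h11 := hrel 1 (by simp)
  simp only [Char.apply_one_eq_degree] at h11
  have h11' : (1 : ℤ) + (Char.degree χ : ℤ) * e + (Char.degree ψ : ℤ) * f = 0 := by
    exact_mod_cast h11
  have hp1 := Char.degree_pos χ
  have hp2 := Char.degree_pos ψ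
  -- the degree of the character with positive value
  have key : ∀ A B : IrrCharacter G, A ≠ T → B ≠ T → A ≠ B → A.1 x = 1 → A.1 x⁻¹ = 1 →
      B.1 x = -1 → B.1 x⁻¹ = -1 → Char.degree B = Char.degree A + 1 →
      (∀ g : G, ¬ 3 ∣ orderOf g → B.1 g = 1 + A.1 g) →
      (∀ φ, φ ≠ T → φ ≠ A → φ ≠ B → φ.1 x⁻¹ = 0) → Nonempty (Block x) := by
    intro A B hA hB hAB a1 a2 b1 b2 hdeg hr hrest
    obtain ⟨n, hn⟩ := DefectOne.exists_sum_eq_mul (P := P) hPc A
    have hd3 : Char.degree A % 3 = 1 := by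
      have hv : ∀ y ∈ Finset.univ.erase (1 : (P : Subgroup G)), A.1 y = 1 := by
        intro y hy
        have hy' : (y : G) ∈ Subgroup.zpowers x := hPe ▸ y.2
        rcases h.mem_iff.1 hy' with e1 | e1 | e1
        · exact absurd (Subtype.ext e1) (Finset.mem_erase.1 hy).1
        · rw [e1, a1]
        · rw [e1, ← h.inv_eq, a2]
      rw [DefectOne.sum_split, Finset.sum_congr rfl hv, Finset.sum_const,
        DefectOne.card_erase hPc, nsmul_eq_mul, mul_one] at hn
      have : Char.degree A + 2 = 3 * n := by exact_mod_cast hn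
      omega
    have hd1 : Char.degree A ≠ 1 := by
      intro h1
      obtain ⟨lam, hlam⟩ := Char.IsCharacter.exists_monoidHom (Char.irr_isCharacter A)
        (by rw [Char.apply_one_eq_degree, h1, Nat.cast_one])
      refine hA (Subtype.ext ?_)
      funext g
      rw [← hlam, hom_eq_one hnc lam, hT, Char.trivialChar_apply]
      rfl
    exact ⟨⟨A, B, Char.degree A, by omega, hd3, Char.apply_one_eq_degree A,
      by rw [Char.apply_one_eq_degree, hdeg, Nat.cast_add, Nat.cast_one], a2, b2, a1, b1, hA, hB,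
      hAB, hr, hrest⟩⟩
  rcases he with rfl | rfl <;> rcases hf with rfl | rfl
  · exfalso; omega
  · refine key χ ψ hχT hψT hne (by simpa using hex) (by simpa using hexi) (by simpa using hfx)
      (by simpa using hfxi) (by omega) (fun g hg => ?_) fun φ h1 h2 h3 =>
        (hvan φ (by simp [hthree, h1, h2, h3])).2
    have := hrel g hg
    push_cast at this
    linear_combination -this
  · refine key ψ χ hψT hχT hne.symm (by simpa using hfx) (by simpa using hfxi) (by simpa using hex)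
      (by simpa using hexi) (by omega) (fun g hg => ?_) fun φ h1 h2 h3 =>
        (hvan φ (by simp [hthree, h1, h2, h3])).2
    have := hrel g hg
    push_cast at this
    linear_combination -this
  · exfalso; omega

/-- The sum in the structure constants with product `x`. -/
theorem Block.sum_eq (K : Block x) {u v : G} (hu : ¬ 3 ∣ orderOf u) :
    (∑ χ : IrrCharacter G, χ.1 u * χ.1 v * χ.1 x⁻¹ / χ.1 1) =
      1 + K.A.1 u * K.A.1 v / K.d - (1 + K.A.1 u) * K.B.1 v / (K.d + 1) := by
  rw [← Finset.sum_subset (Finset.subset_univ ({Char.trivialChar G, K.A, K.B} : Finset _))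
    fun φ _ hφ => by
      simp only [Finset.mem_insert, Finset.mem_singleton, not_or] at hφ
      rw [K.rest φ hφ.1 hφ.2.1 hφ.2.2, mul_zero, zero_div],
    Finset.sum_insert (by simp [K.A_ne.symm, K.B_ne.symm]), Finset.sum_pair K.AB_ne,
    Char.trivialChar_apply, Char.trivialChar_apply, Char.trivialChar_apply, Char.trivialChar_apply,
    K.A_x, K.B_x, K.A_one, K.B_one, K.reg u hu]
  ring

/-- Counting pairs of conjugators by their first conjugate. -/
theorem card_pairs (u v z : G) :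
    Nat.card {p : G × G // p.1 * u * p.1⁻¹ * (p.2 * v * p.2⁻¹) = z} =
      Nat.card {t : G // IsConj u t ∧ IsConj v (t⁻¹ * z)} *
        (Nat.card (Subgroup.centralizer ({u} : Set G)) *
          Nat.card (Subgroup.centralizer ({v} : Set G))) := by
  let P : G → Prop := fun t => IsConj u t ∧ IsConj v (t⁻¹ * z)
  let e : {p : G × G // p.1 * u * p.1⁻¹ * (p.2 * v * p.2⁻¹) = z} ≃
      Σ t : {t : G // P t}, {g : G // g * u * g⁻¹ = t.1} × {h : G // h * v * h⁻¹ = t.1⁻¹ * z} :=
    { toFun := fun p => ⟨⟨p.1.1 * u * p.1.1⁻¹, isConj_iff.2 ⟨p.1.1, rfl⟩,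
        isConj_iff.2 ⟨p.1.2, eq_inv_mul_iff_mul_eq.2 p.2⟩⟩, ⟨p.1.1, rfl⟩,
        ⟨p.1.2, eq_inv_mul_iff_mul_eq.2 p.2⟩⟩
      invFun := fun q => ⟨(q.2.1.1, q.2.2.1), by
        show q.2.1.1 * u * q.2.1.1⁻¹ * (q.2.2.1 * v * q.2.2.1⁻¹) = z
        rw [q.2.1.2, q.2.2.2, mul_inv_cancel_left]⟩
      left_inv := fun p => rfl
      right_inv := by
        rintro ⟨⟨t, ht⟩, ⟨g, hg⟩, ⟨k, hk⟩⟩
        dsimp only at hg
        subst hg
        rfl }
  rw [Nat.card_congr e, Nat.card_sigma, Finset.sum_congr rfl fun t _ => by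
    rw [Nat.card_prod, Invol.card_conj_eq _ (isConj_iff.1 t.2.1),
      Invol.card_conj_eq _ (isConj_iff.1 t.2.2)], Finset.sum_const, Finset.card_univ,
    ← Nat.card_eq_fintype_card, smul_eq_mul]

/-- An elementary abelian 2-subgroup gives a lower bound for the value at involutions. -/
theorem Block.value_bound (K : Block x) {a : ℤ} (E : Subgroup G)
    (hE : ∀ g ∈ E, g ≠ 1 → K.A.1 g = (a : ℂ)) :
    0 ≤ (K.d : ℤ) + ((Nat.card E : ℤ) - 1) * a ∧
      (Nat.card E : ℤ) ∣ (K.d : ℤ) + ((Nat.card E : ℤ) - 1) * a := by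
  obtain ⟨n, hn⟩ := Char.IsCharacter.exists_nat_classInner
    (Char.IsCharacter.restrict (Char.irr_isCharacter K.A) E)
    (Char.irr_isCharacter (Char.trivialChar E))
  simp only [classInner, Char.trivialChar_apply, map_one, mul_one] at hn
  rw [← Finset.add_sum_erase _ _ (Finset.mem_univ (1 : E)), OneMemClass.coe_one, K.A_one,
    Finset.sum_congr rfl fun (y : E) hy => hE y y.2 fun e => (Finset.mem_erase.1 hy).1 (Subtype.ext e),
    Finset.sum_const, Finset.card_erase_of_mem (Finset.mem_univ _), Finset.card_univ,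
    ← Nat.card_eq_fintype_card, nsmul_eq_mul, Nat.cast_sub Nat.card_pos,
    inv_mul_eq_iff_eq_mul₀ (Nat.cast_ne_zero.2 Nat.card_pos.ne')] at hn
  push_cast at hn
  have h1 : (K.d : ℤ) + ((Nat.card E : ℤ) - 1) * a = (Nat.card E : ℤ) * n := by exact_mod_cast hn
  exact ⟨h1 ▸ by positivity, ⟨n, h1⟩⟩

end Cfsg.Agent.SelfCentThree
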