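import Mathlib

/-!
# A self-centralising element of order three

Every element of order divisible by three has order three, and the element acts without fixed
points on each invariant subgroup of order prime to three, so there `d * σ d * σ² d = 1` and `d`
commutes with `σ d`.
-/

set_option autoImplicit false
set_option linter.style.haveILetI false
set_option linter.unusedSectionVars false

namespace Cfsg.Agent.SelfCentThree

universe u

variable {G : Type u} [Group G]

/-- `x` has order three and is only centralised by its powers. -/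
structure SelfThree (x : G) : Prop where
  order : orderOf x = 3
  cent : ∀ g : G, g * x = x * g → g ∈ Subgroup.zpowers x

theorem pow_three_of_order {x : G} (h : orderOf x = 3) : x * x * x = 1 := by
  rw [← pow_three', ← h, pow_orderOf_eq_one]

namespace SelfThree

variable {x : G}

theorem cube (h : SelfThree x) : x * x * x = 1 := pow_three_of_order h.order

theorem inv_eq (h : SelfThree x) : x⁻¹ = x * x :=
  inv_eq_of_mul_eq_one_right (by rw [← mul_assoc, h.cube])

theorem ne_one (h : SelfThree x) : x ≠ 1 := fun e => by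
  have := h.order
  rw [e, orderOf_one] at this
  omega

theorem mem_iff (h : SelfThree x) {g : G} :
    g ∈ Subgroup.zpowers x ↔ g = 1 ∨ g = x ∨ g = x * x := by
  constructor
  · intro hg
    obtain ⟨k, rfl⟩ := Subgroup.mem_zpowers_iff.1 hg
    have hk : k % 3 = 0 ∨ k % 3 = 1 ∨ k % 3 = 2 := by omega
    have e : x ^ k = x ^ (k % 3) := by
      conv_lhs => rw [← Int.mul_ediv_add_emod k 3, zpow_add, zpow_mul]
      rw [show x ^ (3 : ℤ) = 1 by rw [show (3 : ℤ) = ((3 : ℕ) : ℤ) from rfl, zpow_natCast,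
        ← h.order, pow_orderOf_eq_one], one_zpow, one_mul]
    rcases hk with hk | hk | hk <;> rw [e, hk]
    · exact Or.inl (zpow_zero x)
    · exact Or.inr (Or.inl (zpow_one x))
    · exact Or.inr (Or.inr (by rw [zpow_two]))
  · rintro (rfl | rfl | rfl)
    · exact one_mem _
    · exact Subgroup.mem_zpowers _
    · exact mul_mem (Subgroup.mem_zpowers _) (Subgroup.mem_zpowers _)

theorem inv (h : SelfThree x) : SelfThree x⁻¹ where
  order := by rw [orderOf_inv]; exact h.order
  cent g hg := by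
    rw [Subgroup.zpowers_inv]
    refine h.cent g ?_
    calc g * x = x * (x⁻¹ * g) * x := by group
      _ = x * (g * x⁻¹) * x := by rw [hg]
      _ = x * g := by group

theorem conj (h : SelfThree x) (g : G) : SelfThree (g * x * g⁻¹) where
  order := by
    rw [show g * x * g⁻¹ = MulAut.conj g x from rfl, MulEquiv.orderOf_eq]; exact h.order
  cent a ha := by
    have h1 : g⁻¹ * a * g ∈ Subgroup.zpowers x := by
      refine h.cent _ ?_
      calc g⁻¹ * a * g * x = g⁻¹ * (a * (g * x * g⁻¹)) * g := by group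
        _ = g⁻¹ * ((g * x * g⁻¹) * a) * g := by rw [ha]
        _ = x * (g⁻¹ * a * g) := by group
    obtain ⟨k, hk⟩ := Subgroup.mem_zpowers_iff.1 h1
    refine Subgroup.mem_zpowers_iff.2 ⟨k, ?_⟩
    rw [conj_zpow, hk]
    group

theorem restrict (h : SelfThree x) (L : Subgroup G) (hx : x ∈ L) : SelfThree (⟨x, hx⟩ : L) where
  order := by rw [← Subgroup.orderOf_coe]; exact h.order
  cent g hg := by
    have := h.cent (g : G) (congrArg Subtype.val hg)
    obtain ⟨k, hk⟩ := Subgroup.mem_zpowers_iff.1 this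
    exact Subgroup.mem_zpowers_iff.2 ⟨k, Subtype.ext (by rw [SubgroupClass.coe_zpow]; exact hk)⟩

theorem card_sylow [Finite G] (h : SelfThree x) (P : Sylow 3 G) : Nat.card P = 3 := by
  have hX : IsPGroup 3 (Subgroup.zpowers x) :=
    IsPGroup.of_card (n := 1) (by rw [Nat.card_zpowers, h.order, pow_one])
  obtain ⟨Q, hQ⟩ := hX.exists_le_sylow
  rw [Sylow.card_eq_multiplicity P, ← Sylow.card_eq_multiplicity Q]
  haveI : Nontrivial (Q : Subgroup G) :=
    ⟨⟨x, hQ (Subgroup.mem_zpowers x)⟩, 1, fun e => h.ne_one (congrArg Subtype.val e)⟩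
  haveI : Nontrivial (Subgroup.center (Q : Subgroup G)) :=
    IsPGroup.center_nontrivial Q.isPGroup'
  obtain ⟨z, hz⟩ := exists_ne (1 : Subgroup.center (Q : Subgroup G))
  have hzc : ∀ q : (Q : Subgroup G), q * z.1 = z.1 * q := fun q => Subgroup.mem_center_iff.1 z.2 q
  have hzX : ((z.1 : (Q : Subgroup G)) : G) ∈ Subgroup.zpowers x :=
    h.cent _ (congrArg Subtype.val (hzc ⟨x, hQ (Subgroup.mem_zpowers x)⟩)).symm
  have hz1 : ((z.1 : (Q : Subgroup G)) : G) ≠ 1 := fun e => hz (Subtype.ext (Subtype.ext e))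
  have hle : (Q : Subgroup G) ≤ Subgroup.zpowers x := by
    intro q hq
    refine h.cent q ?_
    have hc : q * (z.1 : G) = (z.1 : G) * q := congrArg Subtype.val (hzc ⟨q, hq⟩)
    rcases h.mem_iff.1 hzX with e | e | e
    · exact absurd e hz1
    · rwa [e] at hc
    · rw [e] at hc
      calc q * x = q * (x * x) * (x * x) := by
            rw [show q * (x * x) * (x * x) = q * x * (x * x * x) by group, h.cube, mul_one]
        _ = x * x * q * (x * x) := by rw [hc]
        _ = x * x * (q * (x * x)) := by group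
        _ = x * x * (x * x * q) := by rw [hc]
        _ = x * x * x * (x * q) := by group
        _ = x * q := by rw [h.cube, one_mul]
  have hQe : (Q : Subgroup G) = Subgroup.zpowers x := le_antisymm hle hQ
  calc Nat.card Q = Nat.card (Q : Subgroup G) := rfl
    _ = 3 := by rw [hQe, Nat.card_zpowers, h.order]

theorem exists_conj [Finite G] (h : SelfThree x) {y : G} (hy : orderOf y = 3) :
    ∃ g : G, y = g * x * g⁻¹ ∨ y = g * x⁻¹ * g⁻¹ := by
  have hX : Nat.card (Subgroup.zpowers x) = 3 := by rw [Nat.card_zpowers, h.order]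
  have hY : IsPGroup 3 (Subgroup.zpowers y) :=
    IsPGroup.of_card (n := 1) (by rw [Nat.card_zpowers, hy, pow_one])
  obtain ⟨Q, hQ⟩ := hY.exists_le_sylow
  let P : Sylow 3 G := Sylow.ofCard (Subgroup.zpowers x) (by
    rw [hX, ← Sylow.card_eq_multiplicity Q, h.card_sylow Q])
  obtain ⟨g, hg⟩ := MulAction.exists_smul_eq G P Q
  refine ⟨g, ?_⟩
  have hyQ : y ∈ ((g • P : Sylow 3 G) : Subgroup G) := hg ▸ hQ (Subgroup.mem_zpowers y)
  rw [Sylow.coe_subgroup_smul, Subgroup.mem_pointwise_smul_iff_inv_smul_mem] at hyQ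
  have hm : g⁻¹ * y * g ∈ Subgroup.zpowers x := by
    have e : (MulAut.conj g)⁻¹ • y = g⁻¹ * y * g := by
      rw [← map_inv, MulAut.smul_def, MulAut.conj_apply, inv_inv]
    rw [← e]
    exact hyQ
  have hy' : y = g * (g⁻¹ * y * g) * g⁻¹ := by group
  rcases h.mem_iff.1 hm with e | e | e
  · rw [e] at hy'
    simp only [mul_one, mul_inv_cancel] at hy'
    rw [hy', orderOf_one] at hy
    omega
  · exact Or.inl (by rw [hy', e])
  · exact Or.inr (by rw [hy', e, h.inv_eq])

theorem of_order [Finite G] (h : SelfThree x) {y : G} (hy : orderOf y = 3) : SelfThree y := by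
  obtain ⟨g, rfl | rfl⟩ := h.exists_conj hy
  · exact h.conj g
  · exact h.inv.conj g

theorem orderOf_eq_three [Finite G] (h : SelfThree x) {g : G} (hg : 3 ∣ orderOf g) :
    orderOf g = 3 := by
  have hpos : orderOf g / 3 ≠ 0 := by
    have := orderOf_pos g
    omega
  have h3 : orderOf (g ^ (orderOf g / 3)) = 3 := by
    rw [orderOf_pow' g hpos, Nat.gcd_eq_right (Nat.div_dvd_of_dvd hg)]
    exact Nat.div_div_self hg (orderOf_pos g).ne'
  have hmem : g ∈ Subgroup.zpowers (g ^ (orderOf g / 3)) :=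
    (h.of_order h3).cent g ((Commute.refl g).pow_right _).eq
  have hd : orderOf g ∣ 3 := by
    have := Subgroup.orderOf_dvd_natCard _ hmem
    rwa [Nat.card_zpowers, h3] at this
  rcases (Nat.dvd_prime Nat.prime_three).1 hd with e | e
  · rw [e] at hg
    omega
  · exact e

section Invariant

variable [Finite G] (h : SelfThree x) {D : Subgroup G}
  (hD : ∀ d ∈ D, x * d * x⁻¹ ∈ D) (h3 : ¬ 3 ∣ Nat.card D)
include h

omit [Finite G] in
theorem not_mem (h3 : ¬ 3 ∣ Nat.card D) : x ∉ D := fun hx =>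
  h3 (h.order ▸ Subgroup.orderOf_dvd_natCard D hx)

omit [Finite G] in
theorem eq_one_of_fixed (h3 : ¬ 3 ∣ Nat.card D) {d : G} (hd : d ∈ D)
    (hfix : x * d * x⁻¹ = d) : d = 1 := by
  have hc : d * x = x * d := by
    conv_lhs => rw [← hfix]
    group
  rcases h.mem_iff.1 (h.cent d hc) with e | e | e
  · exact e
  · exact absurd (e ▸ hd) (h.not_mem h3)
  · refine absurd ?_ (h.not_mem h3)
    have := inv_mem hd
    rwa [e, ← h.inv_eq, inv_inv] at this

include hD in
theorem conj_mem_symm {d : G} (hd : d ∈ D) : x⁻¹ * d * x ∈ D := by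
  have := hD _ (hD d hd)
  rwa [show x * (x * d * x⁻¹) * x⁻¹ = x * x * d * (x * x)⁻¹ by group, ← h.inv_eq, inv_inv] at this

include hD h3 in
theorem exists_eq_commutator {d : G} (hd : d ∈ D) : ∃ e ∈ D, e⁻¹ * (x * e * x⁻¹) = d := by
  let f : D → D := fun e => ⟨(e : G)⁻¹ * (x * e * x⁻¹), mul_mem (inv_mem e.2) (hD _ e.2)⟩
  have hf : Function.Injective f := by
    intro a b hab
    have hab' : (a : G)⁻¹ * (x * a * x⁻¹) = (b : G)⁻¹ * (x * b * x⁻¹) := congrArg Subtype.val hab
    have h1 : (b : G) * (a : G)⁻¹ = 1 := by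
      refine h.eq_one_of_fixed h3 (mul_mem b.2 (inv_mem a.2)) ?_
      calc x * ((b : G) * (a : G)⁻¹) * x⁻¹
          = (x * b * x⁻¹) * (x * a * x⁻¹)⁻¹ := by group
        _ = b * ((b : G)⁻¹ * (x * b * x⁻¹)) * ((a : G)⁻¹ * (x * a * x⁻¹))⁻¹ * (a : G)⁻¹ := by
          group
        _ = (b : G) * (a : G)⁻¹ := by rw [hab']; group
    exact Subtype.ext (eq_of_mul_inv_eq_one h1).symm
  obtain ⟨e, he⟩ := Finite.surjective_of_injective hf ⟨d, hd⟩
  exact ⟨e, e.2, congrArg Subtype.val he⟩

include hD h3 in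
/-- `d * σ d * σ² d = 1`. -/
theorem norm_eq_one {d : G} (hd : d ∈ D) :
    d * (x * d * x⁻¹) * (x⁻¹ * d * x) = 1 := by
  obtain ⟨e, -, rfl⟩ := h.exists_eq_commutator hD h3 hd
  have e3 : ∀ a : G, x⁻¹ * a * x = x * x * a * (x * x)⁻¹ := fun a => by
    rw [← h.inv_eq, inv_inv]
  rw [e3]
  calc _ = e⁻¹ * (x * x * x) * e * (x * x * x)⁻¹ := by group
    _ = 1 := by rw [h.cube]; group

include hD h3 in
/-- `d` commutes with its image. -/
theorem commute_conj {d : G} (hd : d ∈ D) : d * (x * d * x⁻¹) = (x * d * x⁻¹) * d := by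
  have h1 := h.norm_eq_one hD h3 hd
  have h2 := h.inv.norm_eq_one (D := D) (fun a ha => by
    rw [inv_inv]; exact h.conj_mem_symm hD ha) h3 (hD d hd)
  rw [inv_inv, show x⁻¹ * (x * d * x⁻¹) * x = d by group,
    show x * (x * d * x⁻¹) * x⁻¹ = x * x * d * (x * x)⁻¹ by group, ← h.inv_eq, inv_inv] at h2
  calc d * (x * d * x⁻¹)
      = d * (x * d * x⁻¹) * (x⁻¹ * d * x) * (x⁻¹ * d * x)⁻¹ := by group
    _ = x * d * x⁻¹ * d * (x⁻¹ * d * x) * (x⁻¹ * d * x)⁻¹ := by rw [h1, h2]
    _ = x * d * x⁻¹ * d := by group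

include hD h3 in
/-- Every element of the coset `D * x` is conjugate to `x` under `D`. -/
theorem exists_conj_coset {d : G} (hd : d ∈ D) : ∃ e ∈ D, d * x = e⁻¹ * x * e := by
  obtain ⟨e, he, rfl⟩ := h.exists_eq_commutator hD h3 hd
  exact ⟨e, he, by group⟩

include hD h3 in
theorem orderOf_coset {d : G} (hd : d ∈ D) : orderOf (d * x) = 3 := by
  obtain ⟨e, -, he⟩ := h.exists_conj_coset hD h3 hd
  rw [he, show e⁻¹ * x * e = e⁻¹ * x * e⁻¹⁻¹ by group]
  exact (h.conj e⁻¹).order

include hD h3 in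
theorem card_mod_three : Nat.card D % 3 = 1 := by
  classical
  haveI := Fintype.ofFinite D
  let f : Function.End D := fun d => ⟨x * d * x⁻¹, hD d d.2⟩
  have hf : f ^ 3 ^ 1 = 1 := by
    funext d
    refine Subtype.ext ?_
    show x * (x * (x * (d : G) * x⁻¹) * x⁻¹) * x⁻¹ = d
    rw [show x * (x * (x * (d : G) * x⁻¹) * x⁻¹) * x⁻¹ = x * x * x * d * (x * x * x)⁻¹ by group,
      h.cube]
    simp
  haveI : Fact (Nat.Prime 3) := ⟨Nat.prime_three⟩
  have h1 := Equiv.Perm.card_fixedPoints_modEq hf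
  have h2 : Fintype.card (Function.fixedPoints f) = 1 := by
    rw [Fintype.card_eq_one_iff]
    refine ⟨⟨1, Subtype.ext (by show x * ((1 : D) : G) * x⁻¹ = _; simp)⟩, ?_⟩
    rintro ⟨d, hd⟩
    exact Subtype.ext (Subtype.ext (h.eq_one_of_fixed h3 d.2 (congrArg Subtype.val hd)))
  rw [h2] at h1
  rw [Nat.card_eq_fintype_card]
  exact h1

end Invariant

end SelfThree

end Cfsg.Agent.SelfCentThree
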